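import Cfsg.Agent.Lib.Helper51.Zass.Defs

/-!
# Project ZASS (S0690): package [RL] (ring lemma)

A finite ring spanned by 8 elements over a central subset maps onto a matrix ring of size
at most 2 over a finite field (Wedderburn-Artin + little Wedderburn).
-/

set_option autoImplicit false

namespace Cfsg.Agent.Lib.Helper10.Zass

open Cfsg.Agent.Lib.Helper51.Zass

universe u

/-- A surjection of a finite ring, spanned by 8 elements over a central subset, onto a matrix
ring over a finite field forces the matrix size to be at most 2. -/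
theorem rl_core_field (p : ℕ) [Fact p.Prime] (R : Type u) [Ring R]
    (hp : (p : R) = 0) (Zc : Set R) (hZc : ∀ z ∈ Zc, ∀ x : R, z * x = x * z)
    (r : Fin 8 → R) (hr : ∀ x : R, ∃ c : Fin 8 → R, (∀ i, c i ∈ Zc) ∧ x = ∑ i, c i * r i)
    (k : ℕ) [NeZero k] (D : Type u) [Field D] [Finite D]
    (Ψ : R →+* Matrix (Fin k) (Fin k) D) (hΨ : Function.Surjective Ψ) :
    ∃ (E : Type u) (_ : Field E) (_ : Finite E) (_ : CharP E p),
      Nonempty (R →+* Matrix (Fin 2) (Fin 2) E) := by
  classical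
  -- characteristic
  have hpD : (p : D) = 0 := by
    have h1 : Ψ (p : R) = 0 := by rw [hp, map_zero]
    rw [map_natCast] at h1
    have h2 := congrFun (congrFun h1 0) 0
    rw [Matrix.natCast_apply] at h2
    simpa using h2
  have hchar : CharP D p := (CharP.charP_iff_prime_eq_zero (Fact.out : p.Prime)).mpr hpD
  -- central elements go to scalar matrices
  have hscal : ∀ z ∈ Zc, ∃ a : D, Ψ z = Matrix.scalar (Fin k) a := by
    intro z hz
    have hmem : Ψ z ∈ Set.range (Matrix.scalar (Fin k)) := by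
      apply Matrix.mem_range_scalar_of_commute_single
      intro i j _
      obtain ⟨y, hy⟩ := hΨ (Matrix.single i j (1 : D))
      show Matrix.single i j (1 : D) * Ψ z = Ψ z * Matrix.single i j (1 : D)
      rw [← hy, ← map_mul, ← map_mul, hZc z hz y]
    obtain ⟨a, ha⟩ := hmem
    exact ⟨a, ha.symm⟩
  -- the span
  have hspan : Submodule.span D (Set.range (fun i => Ψ (r i))) = ⊤ := by
    rw [eq_top_iff]
    intro m _
    obtain ⟨x, rfl⟩ := hΨ m
    obtain ⟨c, hc, hx⟩ := hr x
    rw [hx, map_sum]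
    refine Submodule.sum_mem _ (fun i _ => ?_)
    obtain ⟨a, ha⟩ := hscal (c i) (hc i)
    rw [map_mul, ha, Matrix.scalar_apply, ← Matrix.smul_eq_diagonal_mul]
    exact Submodule.smul_mem _ _ (Submodule.subset_span ⟨i, rfl⟩)
  have hfr := finrank_le_of_span_eq_top hspan
  rw [Module.finrank_matrix] at hfr
  simp only [Fintype.card_fin, Module.finrank_self, mul_one] at hfr
  have hk0 : k ≠ 0 := NeZero.ne k
  have hk2 : k ≤ 2 := by
    by_contra h
    have h3 : 3 ≤ k := by omega
    have : 9 ≤ k * k := by nlinarith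
    omega
  obtain rfl | rfl : k = 1 ∨ k = 2 := by omega
  · exact ⟨D, inferInstance, inferInstance, hchar,
      ⟨(Matrix.scalar (Fin 2)).comp ((Matrix.uniqueRingEquiv (m := Fin 1) (A := D)).toRingHom.comp Ψ)⟩⟩
  · exact ⟨D, inferInstance, inferInstance, hchar, ⟨Ψ⟩⟩

/-- A finite nontrivial ring of characteristic `p`, spanned by 8 elements over a central subset,
maps to `M₂(E)` for a finite field `E` of characteristic `p`. -/
theorem rl_core (p : ℕ) [Fact p.Prime] (R : Type u) [Ring R] [Finite R] [Nontrivial R]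
    (hp : (p : R) = 0) (Zc : Set R) (hZc : ∀ z ∈ Zc, ∀ x : R, z * x = x * z)
    (r : Fin 8 → R) (hr : ∀ x : R, ∃ c : Fin 8 → R, (∀ i, c i ∈ Zc) ∧ x = ∑ i, c i * r i) :
    ∃ (E : Type u) (_ : Field E) (_ : Finite E) (_ : CharP E p),
      Nonempty (R →+* Matrix (Fin 2) (Fin 2) E) := by
  classical
  have : IsArtinianRing R := inferInstance
  have hss : IsSemisimpleRing (R ⧸ Ring.jacobson R) := inferInstance
  have : Nontrivial (R ⧸ Ring.jacobson R) :=
    Ideal.Quotient.nontrivial_iff.mpr (Ring.jacobson_lt_top R).ne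
  obtain ⟨n, D, d, instD, hd, ⟨e⟩⟩ :=
    IsSemisimpleRing.exists_ringEquiv_pi_matrix_divisionRing (R := R ⧸ Ring.jacobson R)
  have hn : 0 < n := by
    by_contra h
    have hn0 : n = 0 := by omega
    subst hn0
    have hsub : Subsingleton (R ⧸ Ring.jacobson R) := e.toEquiv.subsingleton
    exact not_subsingleton _ hsub
  let i₀ : Fin n := ⟨0, hn⟩
  have : NeZero (d i₀) := hd i₀
  let Ψ : R →+* Matrix (Fin (d i₀)) (Fin (d i₀)) (D i₀) :=
    (Pi.evalRingHom (fun i => Matrix (Fin (d i)) (Fin (d i)) (D i)) i₀).comp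
      (e.toRingHom.comp (Ideal.Quotient.mk (Ring.jacobson R)))
  have hΨ : Function.Surjective Ψ := by
    intro m
    obtain ⟨y, hy⟩ := e.surjective (Function.update (fun _ => 0) i₀ m)
    obtain ⟨x, hx⟩ := Ideal.Quotient.mk_surjective y
    refine ⟨x, ?_⟩
    show e (Ideal.Quotient.mk (Ring.jacobson R) x) i₀ = m
    rw [hx, hy, Function.update_self]
  have hfinM : Finite (Matrix (Fin (d i₀)) (Fin (d i₀)) (D i₀)) := Finite.of_surjective Ψ hΨ
  have hfinD : Finite (D i₀) := by
    refine Finite.of_injective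
      (fun a : D i₀ => (Matrix.of fun _ _ => a : Matrix (Fin (d i₀)) (Fin (d i₀)) (D i₀))) ?_
    intro a b hab
    have := congrFun (congrFun hab 0) 0
    simpa using this
  let _ : Field (D i₀) := littleWedderburn (D i₀)
  exact rl_core_field p R hp Zc hZc r hr (d i₀) (D i₀) Ψ hΨ

/-- **[RL]** the ring lemma of project ZASS. -/
theorem pkgRL : PkgRL.{u} := by
  intro p _ V _ _ _ _ G _ _ ρ hfpf S Z hZ1 hZ2 r hr h1 hmul
  classical
  have hfinA : Finite (Module.End (ZMod p) V) :=
    Finite.of_injective (fun f : Module.End (ZMod p) V => (f : V → V)) DFunLike.coe_injective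
  -- the `Z`-span of the `r i`
  let M0 : Set (Module.End (ZMod p) V) :=
    {x | ∃ c : Fin 8 → Module.End (ZMod p) V, (∀ i, c i ∈ Z) ∧ x = ∑ i, c i * r i}
  have hM0add : ∀ x ∈ M0, ∀ y ∈ M0, x + y ∈ M0 := by
    rintro x ⟨c, hc, rfl⟩ y ⟨c', hc', rfl⟩
    refine ⟨fun i => c i + c' i, fun i => Z.add_mem (hc i) (hc' i), ?_⟩
    rw [← Finset.sum_add_distrib]
    exact Finset.sum_congr rfl (fun i _ => (add_mul _ _ _).symm)
  have hM0Z : ∀ z ∈ Z, ∀ x ∈ M0, z * x ∈ M0 := by
    rintro z hz x ⟨c, hc, rfl⟩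
    refine ⟨fun i => z * c i, fun i => Z.mul_mem hz (hc i), ?_⟩
    rw [Finset.mul_sum]
    exact Finset.sum_congr rfl (fun i _ => (mul_assoc _ _ _).symm)
  have hM0alg : ∀ a : ZMod p, ∀ x ∈ M0, algebraMap (ZMod p) (Module.End (ZMod p) V) a * x ∈ M0 :=
    fun a x hx => hM0Z _ (Z.algebraMap_mem a) x hx
  have hM0S : ∀ s ∈ S, ∀ x ∈ M0, ρ s * x ∈ M0 := by
    rintro s hs x ⟨c, hc, rfl⟩
    choose dd hd1 hd2 using hmul s hs
    refine ⟨fun i => ∑ j, c j * dd j i, fun i => Z.sum_mem (fun j _ => Z.mul_mem (hc j) (hd1 j i)), ?_⟩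
    rw [Finset.mul_sum]
    have h1 : ∀ j, ρ s * (c j * r j) = ∑ i, c j * dd j i * r i := by
      intro j
      rw [← mul_assoc, ← hZ2 (c j) (hc j) s hs, mul_assoc, hd2 j, Finset.mul_sum]
      exact Finset.sum_congr rfl (fun i _ => (mul_assoc _ _ _).symm)
    rw [Finset.sum_congr rfl (fun j _ => h1 j), Finset.sum_comm]
    exact Finset.sum_congr rfl (fun i _ => (Finset.sum_mul _ _ _).symm)
  have hM0G : ∀ h ∈ Subgroup.closure S, ∀ x ∈ M0, ρ h * x ∈ M0 := by
    intro h hh
    induction hh using Subgroup.closure_induction with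
    | mem s hs => exact hM0S s hs
    | one => intro x hx; rw [map_one, one_mul]; exact hx
    | mul a b _ _ iha ihb => intro x hx; rw [map_mul, mul_assoc]; exact iha _ (ihb x hx)
    | inv a _ iha =>
      have hpow : ∀ n : ℕ, ∀ x ∈ M0, ρ (a ^ n) * x ∈ M0 := by
        intro n
        induction n with
        | zero => intro x hx; rw [pow_zero, map_one, one_mul]; exact hx
        | succ n ihn => intro x hx; rw [pow_succ, map_mul, mul_assoc]; exact ihn _ (iha x hx)
      have hinv : a⁻¹ = a ^ (orderOf a - 1) := by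
        have hpos : 0 < orderOf a := orderOf_pos a
        have : a ^ (orderOf a - 1) * a = 1 := by
          rw [← pow_succ, Nat.sub_add_cancel hpos, pow_orderOf_eq_one]
        exact (eq_inv_of_mul_eq_one_left this).symm
      rw [hinv]
      exact hpow _
  let R : Subalgebra (ZMod p) (Module.End (ZMod p) V) :=
    Algebra.adjoin (ZMod p) ((Z : Set (Module.End (ZMod p) V)) ∪ ρ '' (Subgroup.closure S : Set G))
  have hRM0 : ∀ x ∈ R, ∀ m ∈ M0, x * m ∈ M0 := by
    intro x hx
    induction hx using Algebra.adjoin_induction with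
    | mem y hy =>
      rcases hy with hy | ⟨h, hh, rfl⟩
      · exact hM0Z y hy
      · exact hM0G h hh
    | algebraMap a => exact hM0alg a
    | add a b _ _ iha ihb => intro m hm; rw [add_mul]; exact hM0add _ (iha m hm) _ (ihb m hm)
    | mul a b _ _ iha ihb => intro m hm; rw [mul_assoc]; exact iha _ (ihb m hm)
  have hRsub : ∀ x ∈ R, x ∈ M0 := fun x hx => by
    have := hRM0 x hx 1 ⟨_, h1.choose_spec.1, h1.choose_spec.2⟩
    rwa [mul_one] at this
  -- `Z` is central in `R`
  have hZG : ∀ z ∈ Z, ∀ h ∈ Subgroup.closure S, z * ρ h = ρ h * z := by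
    intro z hz h hh
    induction hh using Subgroup.closure_induction with
    | mem s hs => exact hZ2 z hz s hs
    | one => rw [map_one, one_mul, mul_one]
    | mul a b _ _ iha ihb => rw [map_mul, ← mul_assoc, iha, mul_assoc, ihb, mul_assoc]
    | inv a _ iha =>
      have e1 : ρ a⁻¹ * ρ a = 1 := by rw [← map_mul, inv_mul_cancel, map_one]
      have e2 : ρ a * ρ a⁻¹ = 1 := by rw [← map_mul, mul_inv_cancel, map_one]
      calc z * ρ a⁻¹ = (ρ a⁻¹ * ρ a) * z * ρ a⁻¹ := by rw [e1, one_mul]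
        _ = ρ a⁻¹ * (ρ a * z) * ρ a⁻¹ := by rw [mul_assoc (ρ a⁻¹)]
        _ = ρ a⁻¹ * (z * ρ a) * ρ a⁻¹ := by rw [iha]
        _ = ρ a⁻¹ * z * (ρ a * ρ a⁻¹) := by simp only [mul_assoc]
        _ = ρ a⁻¹ * z := by rw [e2, mul_one]
  have hZR : ∀ z ∈ Z, ∀ x ∈ R, z * x = x * z := by
    intro z hz x hx
    induction hx using Algebra.adjoin_induction with
    | mem y hy =>
      rcases hy with hy | ⟨h, hh, rfl⟩
      · exact hZ1 z hz y hy
      · exact hZG z hz h hh
    | algebraMap a => exact (Algebra.commutes a z).symm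
    | add a b _ _ iha ihb => rw [mul_add, add_mul, iha, ihb]
    | mul a b _ _ iha ihb => rw [← mul_assoc, iha, mul_assoc, ihb, mul_assoc]
  -- apply the ring-theoretic core to `R`
  have hpR : ((p : ℕ) : R) = 0 := by
    have : ((p : ℕ) : R) = algebraMap (ZMod p) R ((p : ℕ) : ZMod p) := (map_natCast _ p).symm
    rw [this, ZMod.natCast_self, map_zero]
  have hrR : ∀ i, r i ∈ R := hr
  have hZsub : ∀ z ∈ Z, z ∈ R := fun z hz => Algebra.subset_adjoin (Or.inl hz)
  obtain ⟨E, iF, iFin, iChar, ⟨ψ⟩⟩ := rl_core p R hpR {x : R | (x : Module.End (ZMod p) V) ∈ Z}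
    (fun z hz x => Subtype.ext (hZR z.1 hz x.1 x.2)) (fun i => ⟨r i, hrR i⟩)
    (fun x => by
      obtain ⟨c, hc, hx⟩ := hRsub x.1 x.2
      refine ⟨fun i => ⟨c i, hZsub _ (hc i)⟩, fun i => hc i, Subtype.ext ?_⟩
      rw [hx]
      simp)
  -- the group homomorphism
  let ρR : Subgroup.closure S →* R :=
    { toFun := fun g => ⟨ρ g, Algebra.subset_adjoin (Or.inr ⟨g, g.2, rfl⟩)⟩
      map_one' := Subtype.ext (by simp)
      map_mul' := fun a b => Subtype.ext (by simp) }
  refine ⟨E, iF, iFin, iChar, ((ψ : R →* Matrix (Fin 2) (Fin 2) E).comp ρR).toHomUnits, ?_⟩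
  intro g hg
  have hgG : (g : G) ≠ 1 := fun h => hg (Subtype.ext h)
  -- `ρ g - 1` is injective on `V`
  have hinj : ∀ v : V, (ρ g - 1) v = 0 → v = 0 := by
    intro v hv
    apply hfpf g hgG v
    have : ρ g v - v = 0 := by simpa using hv
    exact sub_eq_zero.mp this
  -- left multiplication by `ρR g - 1` is injective on `R`
  have hlinj : Function.Injective (fun y : R => (ρR g - 1) * y) := by
    intro y y' hyy
    have h2 : (ρ g - 1) * (y.1 - y'.1) = 0 := by
      have := congrArg Subtype.val hyy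
      simp only [Subalgebra.coe_mul, Subalgebra.coe_sub, Subalgebra.coe_one] at this
      rw [mul_sub, sub_eq_zero]
      exact this
    apply Subtype.ext
    apply LinearMap.ext
    intro v
    have h3 := hinj ((y.1 - y'.1) v) (by
      have := congrArg (fun f : Module.End (ZMod p) V => f v) h2
      simpa using this)
    exact sub_eq_zero.mp (by simpa using h3)
  obtain ⟨y, hy⟩ := (Finite.injective_iff_surjective.mp hlinj) 1
  have hy' : y * (ρR g - 1) = 1 := by
    apply hlinj
    show (ρR g - 1) * (y * (ρR g - 1)) = (ρR g - 1) * 1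
    rw [← mul_assoc, show (ρR g - 1) * y = 1 from hy, one_mul, mul_one]
  have hunit : IsUnit (ρR g - 1) := ⟨⟨ρR g - 1, y, hy, hy'⟩, rfl⟩
  have := hunit.map ψ
  rw [map_sub, map_one] at this
  exact this

end Cfsg.Agent.Lib.Helper10.Zass
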